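import Cfsg.Agent.H819.U33.Base

/-!
# S5525: words and subgroups (helper819)
-/

set_option autoImplicit false

namespace Cfsg.Agent.H819.U33

open Cfsg.Agent.BabyM.Conc

/-- Two transpositions, `f = d₁ d₂`. -/
def wd1 : List Ltr := [.Z1, .Z4, .Z6, .Z7, .Z8, .Z9, .p3, .hi, .p3, .h, .p8, .hi, .p8]
def wd2 : List Ltr := [.X3, .X6, .X7, .X8, .Z4, .Z7, .Z8, .Z10, .p2, .y10, .p4, .y5, .xi, .y10, .y5, .xii, .p5]

/-- The central transposition of `R`, `z₀ = (wg6)³`. -/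
def wg6 : List Ltr := [.Z9, .p, .h, .p9, .h, .p5, .h, .p7, .hi, .p7, .h, .p7, .h, .p4, .h, .p4, .hi, .p3, .hi, .p9]

/-- The long word `t` of `R = C(⟨u, f⟩) = ⟨τ, t, X10⟩` (order 80640). -/
def wt : List Ltr := [.X1, .X3, .X4, .X5, .X7, .Z4, .Z9, .z, .y10, .p8, .h, .p9, .hi, .p3, .h, .xi, .p5, .h, .p6, .xii, .h, .p8, .h, .p2, .hi, .y4, .h, .y7, .p6, .xi, .y2, .y5, .y7, .h, .xii, .y6, .h, .xi, .p5, .xi, .y8, .p10, .xi, .y4, .p3, .hi, .p10, .y4, .p7, .y7, .xii, .p2, .xii, .p7, .xii, .tau, .xi, .p4, .xi, .p9, .xi, .y7, .p4, .y4, .p, .h, .p8, .y4, .xii, .p, .y8, .xii, .p6, .xii, .hi, .y6, .xi, .hi, .y7, .y5, .y2, .xii, .p5, .y7, .hi, .y4, .h, .p9, .hi, .p3, .hi, .xi, .p5, .hi, .p6, .xii, .hi, .p8, .h, .p2, .hi, .p3, .y10, .z, .Z9, .Z4, .X7, .X5, .X4, .X3, .X1]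
def wq0 : List Ltr := [.X10]
def wq1 : List Ltr := [.Z3]
def wq2 : List Ltr := [.Z6]
def wq3 : List Ltr := [.Z10]
def wq4 : List Ltr := [.X3, .X5, .Z4]
def wq5 : List Ltr := [.Z0, .Z1, .Z8]
def wq6 : List Ltr := [.Z2, .Z7, .Z9]
def wq7 : List Ltr := [.X2, .X4, .X5, .X7, .X9]
def wq8 : List Ltr := [.X4, .X6, .Z4, .Z5, .z]
def wq9 : List Ltr := [.X0, .X1, .X4, .X5, .X8, .Z7]
def ww0 : List Ltr := [.Z4, .y4, .y6]
def ww1 : List Ltr := [.Z5, .y5, .y7]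
def ww2 : List Ltr := [.p5, .y5, .p6]
def ww3 : List Ltr := [.Z0, .Z4, .Z7, .p4, .y4, .y9, .p7]
def ww4 : List Ltr := [.X1, .X2, .X5, .X6, .p7, .xi, .p5, .hi, .p6, .xi, .p4]
def ww5 : List Ltr := [.Z2, .p8, .h, .p5, .hi, .p6, .hi, .p3]

/-- `X = C(d₁, d₂)` (`≅ Fi₂₂:2`). -/
noncomputable def XX : Subgroup G := Subgroup.centralizer {g wd1, g wd2}

/-- `R = ⟨τ, t, X10⟩` (order 80640, centralises `u` and `f`). -/
noncomputable def RR : Subgroup G := Subgroup.closure {g [.tau], g wt, g [.X10]}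

end Cfsg.Agent.H819.U33
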